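/-
Involutions of `2^20 : U6(2) . 2` centralised by elements of order three: tables.
-/
import Cfsg.Agent.E62.FactB
import Cfsg.Agent.E62.Entry

set_option autoImplicit false
set_option maxRecDepth 100000

namespace Cfsg.Agent.U6S

open Matrix Subgroup Cfsg.Agent.H10 Cfsg.Agent.H29 Cfsg.Agent.H29.F4 Cfsg.Agent.H22.U6
  Cfsg.Agent.MON.Cox Cfsg.Agent.E62 Cfsg.Agent.E62.FT

theorem faith {x : L6} (h : ∀ v : V0, x • v = v) : x = 1 := by
  rcases en_simple.eq_bot_or_eq_top_of_normal (MulAction.toPermHom L6 V0).ker inferInstance with e | e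
  · exact mem_bot.1 (e ▸ (Equiv.ext h : x ∈ (MulAction.toPermHom L6 V0).ker))
  · have h0 : av 0 ∈ (MulAction.toPermHom L6 V0).ker := e ▸ mem_top (av 0)
    have : av 0 • dc 256 = dc 256 := Equiv.congr_fun (MonoidHom.mem_ker.1 h0) (dc 256)
    rw [(av_act (by norm_num) (by norm_num)).1] at this
    exact absurd this (dc_ne (by decide +kernel))

/-- `x` commutes with `κ` -/
def Cm (κ : V0 →+ V0) (x : L6) : Prop := ∀ v, κ (x • v) = x • κ v

/-- conjugacy of the cosets of `[V, κ]` -/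
def Eqv (κ : V0 →+ V0) (a b : V0) : Prop := ∃ s, Cm κ s ∧ ∃ w, s • a = b + (κ w + w)

/-- the coset is fixed by an element of order three -/
def Good (κ : V0 →+ V0) (a : V0) : Prop := ∃ x, Cm κ x ∧ x ≠ 1 ∧ x ^ 3 = 1 ∧ ∃ w, x • a = a + (κ w + w)

theorem lin_cp {F G : ℕ → ℕ} (h : Lin F) (h' : Lin G) : Lin fun n => F (G n) := fun a b => by
  show F (G (a ^^^ b)) = _
  rw [h', h]

variable {κ : V0 →+ V0}

theorem Cm.mul {x y : L6} (h : Cm κ x) (h' : Cm κ y) : Cm κ (x * y) := fun v => by rw [mul_smul, h, h', mul_smul]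

theorem Cm.inv {x : L6} (h : Cm κ x) : Cm κ x⁻¹ := fun v => by rw [eq_inv_smul_iff, ← h, smul_inv_smul]

theorem Eqv.trans {a b c : V0} (h : Eqv κ a b) (h' : Eqv κ b c) : Eqv κ a c := by
  obtain ⟨s, h1, w, e⟩ := h
  obtain ⟨s', h2, w', e'⟩ := h'
  refine ⟨s' * s, h2.mul h1, w' + s' • w, ?_⟩
  rw [mul_smul, e, smul_add, e', smul_add, map_add, h2]
  abel

theorem Eqv.symm {a b : V0} (h : Eqv κ a b) : Eqv κ b a := by
  obtain ⟨s, h1, w, e⟩ := h
  refine ⟨s⁻¹, h1.inv, s⁻¹ • w, ?_⟩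
  rw [h1.inv, ← smul_add, inv_smul_eq_iff, smul_add, smul_inv_smul, e, add_assoc, add_self, add_zero]

theorem Eqv.good {a b : V0} (h : Eqv κ a b) (h' : Good κ b) : Good κ a := by
  obtain ⟨s, h1, w, e⟩ := h
  obtain ⟨x, h2, h3, h4, w', e'⟩ := h'
  refine ⟨s⁻¹ * x * s, (h1.inv.mul h2).mul h1, fun k => h3 ?_, ?_, s⁻¹ • (w + w' + x • w), ?_⟩
  · rwa [mul_assoc, inv_mul_eq_one, right_eq_mul] at k
  · rw [← inv_inv s, inv_inv s⁻¹, conj_pow, h4, mul_one, mul_inv_cancel]
  · rw [mul_smul, mul_smul, h1.inv, ← smul_add, inv_smul_eq_iff, smul_add, smul_inv_smul, e, smul_add, e', smul_add,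
      map_add, map_add, h2]
    calc _ = b + (κ w' + w') + (x • κ w + x • w) + ((κ w + w) + (κ w + w)) := by rw [add_self, add_zero]
      _ = _ := by abel

/-- the data of a certificate -/
structure Ce where
  (d x0 nG sp D : ℕ)
  (U B P : List ℕ)
  W : List (List ℕ)

/-- the representatives -/
noncomputable def Ce.co (c : Ce) (m : ℕ) : ℕ := c.x0 ^^^ ap c.U m

/-- the distance -/
def Ce.di (c : Ce) (m : ℕ) : ℕ := (c.D >>> (8 * m + 4)) % 16

/-- one step -/
noncomputable def Ce.st (c : Ce) (F : ℕ → ℕ) (m j n m' : ℕ) : Bool :=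
  Nat.beq (n ^^^ c.co m') (F (ap c.P (n ^^^ c.co m')) ^^^ ap c.P (n ^^^ c.co m')) && Nat.blt m' (2 ^ c.d) &&
    Nat.blt j c.W.length && (Nat.blt (c.di m') (c.di m) || Nat.beq m' m && Nat.ble c.nG j)

/-- the check -/
noncomputable def Ce.chk (c : Ce) (F : ℕ → ℕ) : Bool :=
  Nat.blt c.x0 (2 ^ 20) && c.U.all (fun u => Nat.blt u (2 ^ 20)) && c.P.all (fun u => Nat.blt u (2 ^ 20)) &&
  c.W.all (fun l => l.all (fun k => Nat.blt k 18) &&
    (List.range 20).all fun i => Nat.beq (F (apw l (2 ^ i))) (apw l (F (2 ^ i)))) &&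
  (c.W.drop c.nG).all (fun l => ((List.range 20).any fun i => !Nat.beq (apw l (2 ^ i)) (2 ^ i)) &&
    (List.range 20).all fun i => Nat.beq (apw (l ++ (l ++ l)) (2 ^ i)) (2 ^ i)) &&
  (List.range (2 ^ c.d)).all fun m => Nat.beq m c.sp || (fun j => (fun n => c.st F m j n (ap c.B (n ^^^ c.x0)))
    (apw (c.W.getD j []) (c.co m))) ((c.D >>> (8 * m)) % 16)

theorem desc {F : ℕ → ℕ} (hF : Lin F) (hκ : ∀ n < 2 ^ 20, κ (dc n) = dc (F n) ∧ F n < 2 ^ 20) (c : Ce)
    (h : c.chk F = true) : ∀ m < 2 ^ c.d, Good κ (dc (c.co m)) ∨ c.sp < 2 ^ c.d ∧ Eqv κ (dc (c.co m)) (dc (c.co c.sp)) := by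
  simp only [Ce.chk, Ce.st, Bool.and_eq_true, Bool.or_eq_true, List.all_eq_true, List.any_eq_true, List.mem_range,
    Nat.blt_eq, Nat.ble_eq, Nat.beq_eq, Bool.not_eq_true', ← Bool.not_eq_true] at h
  obtain ⟨⟨⟨⟨⟨h0, hU⟩, hP⟩, hW⟩, hX⟩, hc⟩ := h
  have lt : ∀ m, c.co m < 2 ^ 20 := fun m => Nat.xor_lt_two_pow h0 (ap_lt hU m)
  have cm : ∀ l ∈ c.W, Cm κ (wp av l) := fun l hl v => by
    have e : F (apw l (cd v)) = apw l (F (cd v)) :=
      Lin.ext (lin_cp hF (Lin.id.apw l)) (hF.apw l) 20 (hW l hl).2 _ (cd_lt v)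
    have a := wp_act (hW l hl).1 (cd_lt v)
    have b := hκ _ (cd_lt v)
    rw [← dc_cd v, a.1, (hκ _ a.2).1, b.1, (wp_act (hW l hl).1 b.2).1, e]
  intro m hm
  induction hn : c.di m using Nat.strong_induction_on generalizing m with
  | _ n ih =>
    rcases hc m hm with e | ⟨⟨⟨e1, e2⟩, e3⟩, e4⟩
    · exact Or.inr ⟨e ▸ hm, 1, fun v => by rw [one_smul, one_smul], 0, by rw [one_smul, map_zero, add_zero, add_zero, e]⟩
    generalize (c.D >>> (8 * m)) % 16 = j at *
    have hl : c.W.getD j [] ∈ c.W := by rw [List.getD_eq_getElem _ _ e3]; exact List.getElem_mem _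
    have hl' : c.nG ≤ j → c.W.getD j [] ∈ c.W.drop c.nG := fun k => by
      rw [List.getD_eq_getElem _ _ e3]
      exact List.mem_drop_iff_getElem.2 ⟨j - c.nG, by omega, by congr 1; omega⟩
    generalize c.W.getD j [] = l at *
    have a := wp_act (hW l hl).1 (lt m)
    generalize ap c.B (apw l (c.co m) ^^^ c.x0) = m' at *
    have k : ∃ w, wp av l • dc (c.co m) = dc (c.co m') + (κ w + w) := by
      refine ⟨dc (ap c.P (apw l (c.co m) ^^^ c.co m')), ?_⟩
      rw [(hκ _ (ap_lt hP _)).1, ← dc_xor, ← e1, ← dc_xor, a.1, Nat.xor_comm (apw _ _), Nat.xor_xor_cancel_left]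
    rcases e4 with e4 | ⟨rfl, e4⟩
    · have k' : Eqv κ _ _ := ⟨_, cm l hl, k⟩
      exact (ih _ (hn ▸ e4) m' e2 rfl).imp k'.good fun t => ⟨t.1, k'.trans t.2⟩
    · obtain ⟨⟨i, hi, e5⟩, e6⟩ := hX l (hl' e4)
      have b : 2 ^ i < 2 ^ 20 := Nat.pow_lt_pow_right (by norm_num) hi
      refine Or.inl ⟨_, cm l hl, fun e => e5 (dc_inj (wp_act (hW l hl).1 b).2 b ?_), faith fun v => ?_, k⟩
      · rw [← (wp_act (hW l hl).1 b).1, e, one_smul]
      · have e := Lin.ext (Lin.id.apw _) Lin.id 20 e6 _ (cd_lt v)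
        rw [pow_three, ← wp_append, ← wp_append, ← dc_cd v, (wp_act (fun k hk => (hW l hl).1 k (by simpa using hk))
          (cd_lt v)).1, e]

theorem desc_fix {F : ℕ → ℕ} (hF : Lin F) (hκ : ∀ n < 2 ^ 20, κ (dc n) = dc (F n) ∧ F n < 2 ^ 20) (c : Ce)
    (h : c.chk F = true) (h1 : c.x0 = 0 ∧ (∀ u ∈ c.P, u < 2 ^ 20) ∧ (∀ u ∈ c.B, u < 2 ^ c.d) ∧ ∀ i < 20, 2 ^ i =
      (F (ap c.P (2 ^ i)) ^^^ ap c.P (2 ^ i)) ^^^ ap c.P (F (2 ^ i) ^^^ 2 ^ i) ^^^ ap c.U (ap c.B (2 ^ i)))
    {a : V0} (ha : κ a = a) : Good κ a ∨ c.sp < 2 ^ c.d ∧ Eqv κ a (dc (c.co c.sp)) := by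
  obtain ⟨n, hn, rfl⟩ := dc_surj a
  have e := Lin.ext Lin.id ((((lin_cp hF (Lin.id.ap c.P)).xor
    (Lin.id.ap c.P)).xor ((hF.xor Lin.id).ap c.P)).xor ((Lin.id.ap c.B).ap c.U)) 20 h1.2.2.2 n hn
  rw [dc_inj (hκ n hn).2 hn ((hκ n hn).1.symm.trans ha), Nat.xor_self, ap_zero, Nat.xor_zero] at e
  have k : Eqv κ (dc n) (dc (c.co (ap c.B n))) := ⟨1, fun v => by rw [one_smul, one_smul], dc (ap c.P n), by
    rw [one_smul, (hκ _ (ap_lt h1.2.1 _)).1, ← dc_xor, ← dc_xor, Ce.co, h1.1, Nat.zero_xor, Nat.xor_comm, ← e]⟩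
  exact (desc hF hκ c h _ (ap_lt h1.2.2.1 n)).imp k.good fun t => ⟨t.1, k.trans t.2⟩

def c0 : Ce := ⟨10, 193536, 5, 1024, 0x4450343464513434413441415044335530522134144134343030645362405544333353433333752472345454232323234444226031552445253031432553556533333333626234503131743444445333404072215344403431641345444413653333333343515050313143434151503355445444444440316451555553416351534355347214444434725353334240735252643551514423545430305151426241414363434361453345336023232323444445455252604345313030515141334353603330423062415320204230202030542231534131314306202051512020614154233163516552524551523352205050227544444343535331310670333342428535515124243445434364644343434355557314454525734351235423644040544234422424404043434040404052455151525245246244543050605340303030304343405255634343535341413030303041413362524054135423131371314444423450344032444440406422405542534463434364644160346013133261323214502424343432326044323243435252554234343434504263523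2325454305321602424454553333333803035353535525273414343306223552332355452525531423454355341435420754343542254643465066340406060131321213250212151415445556132742044443222224165222265542121500613134263434333404165444452456321555555554242753543334060444425254562333345643333323255554250323232325142506144445233442544442525343445324141545441413131254121404150454545455454414141345252625141417034434343434040313135431465545441416145454563324353136135621334545441355353435144443535424261444242424242424242623254545442434363254141434363406454353533337031555545544255545455643353355334343153545452354343444454445360206362405454545422610675434362442525353543623535444453433535455220355341515133602244615435355306252531313131514132543262642324515360416153322222222243114444252522226231444453435261445053332453543243435151316333334343116425253333326565304343534051415252502445655040546460313560116360544242131334425252346062404234416414141414514534653131313160436011141413133153454550505151433344546033245563455252534430541163554444443232303030304262404051334552333324426035236444443333555552113434303044224444505022612054515152525120206565436443542005050505050505052121303021213434414120201414141434342222252522220505050505050505,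
  [87040, 243712, 256000, 282880, 545536, 174080, 69637, 69647, 82000, 82160], [0, 0, 98, 192, 0, 0, 292, 768, 0, 0, 0, 0, 37, 0, 35, 0, 7, 32, 14, 22],
  [],
  [[1, 0, 2, 1], [3, 2, 4, 3], [1, 5, 14, 1], [12, 5, 0, 5, 7], [8, 15, 4, 15, 16], [1, 0, 2, 5, 14, 1], [0, 5, 14, 2]]⟩

def c1 : Ce := ⟨8, 0, 5, 256, 0x5050505101314201014232314133031212124313225253522222222324132242124263616161616262525354626263524214623303636234631312015151515262625362621243616161616264626312310142305050505141013203014133121212121242121312532253532334124314431234624212336303620151515152525323522222222212421314132322416161616252526352426213126264531131410201423102305050505133014313636302333314423214124201515151525254523304245233635362011111111363435234525252341304220111111114240302333363423254525201111111106060606060606060606060605050505,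
  [1, 2, 4, 8, 16, 32, 64, 128], [1, 2, 4, 8, 16, 32, 64, 128],
  [0, 0, 0, 0, 0, 0, 0, 0, 0, 0, 0, 0, 0, 0, 4096, 12288, 1024, 3072, 256, 768],
  [[2], [3], [4], [14], [6], [3, 4], [4, 15]]⟩

def c2 : Ce := ⟨4, 0, 0, 5, 0x41312100312111002010000001010100,
  [16, 32, 64, 128], [0, 0, 0, 0, 1, 2, 4, 8],
  [0, 0, 1, 2, 0, 0, 0, 0, 0, 0, 0, 0, 1024, 3072, 0, 0, 16384, 49152, 256, 768],
  [[2, 14, 3, 2, 14, 3], [2, 3, 4, 15, 3, 14]]⟩

def c3 : Ce := ⟨0, 0, 0, 1, 0x0,
  [], [],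
  [0, 0, 1, 2, 0, 0, 16, 32, 0, 0, 2048, 0, 8192, 0, 32768, 0, 131072, 0, 256, 768],
  [[1, 0, 2, 5, 14, 1]]⟩

def o0 : Ce := ⟨0, 0, 0, 1, 0x0,
  [], [],
  [2, 0, 8, 0, 32, 0, 128, 0, 512, 0, 2048, 0, 8192, 0, 32768, 0, 131072, 0, 524288],
  [[0, 1]]⟩

def o1 : Ce := ⟨0, 0, 0, 1, 0x0,
  [], [],
  [2, 0, 8, 0, 32, 0, 128, 0, 0, 0, 0, 0, 0, 0, 4096, 8192, 1024, 2048, 256, 512],
  [[0, 5]]⟩

def o2 : Ce := ⟨0, 0, 0, 1, 0x0,
  [], [],
  [0, 0, 1, 3, 32, 0, 128, 0, 512, 0, 0, 0, 0, 0, 1024, 3072, 4096, 12288, 524288],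
  [[2, 14]]⟩

def o3 : Ce := ⟨0, 0, 0, 1, 0x0,
  [], [],
  [0, 0, 1, 3, 32, 0, 128, 0, 0, 0, 0, 0, 1024, 2048, 0, 0, 16384, 32768, 256, 512],
  [[0, 5]]⟩

def o4 : Ce := ⟨0, 0, 0, 1, 0x0,
  [], [],
  [2, 0, 8, 0, 0, 0, 16, 48, 512, 0, 0, 0, 1024, 3072, 0, 0, 16384, 49152, 524288],
  [[0, 1]]⟩

def o5 : Ce := ⟨0, 0, 0, 1, 0x0,
  [], [],
  [2, 0, 8, 0, 0, 0, 16, 48, 0, 0, 0, 0, 0, 0, 1024, 2048, 4096, 8192, 256, 512],
  [[0, 5]]⟩

def o6 : Ce := ⟨0, 0, 0, 1, 0x0,
  [], [],
  [0, 0, 1, 3, 0, 0, 16, 48, 512, 0, 0, 0, 0, 0, 4096, 12288, 1024, 3072, 524288],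
  [[2, 14]]⟩

def o7 : Ce := ⟨8, 0, 8, 256, 0x33243917292217373917152917312909343925263923262526252734252639092315232416272823232826233723230927162935153133382934263736383709392426253923252425262739262539092824172331292917172915392317390927162934153933222233242239222209231529361627284329282637353437092316233615272823292824233423230927152933163924222933262235222209251729361725342929363917362917093524272734292827272715392727390927152936163133382933233735343709231629351527284629282437364937093624272736292827272816392727390912131012121110121111101013111108,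
  [1024, 2048, 4096, 8192, 16384, 32768, 65536, 131072], [0, 0, 0, 0, 0, 0, 0, 0, 0, 0, 1, 2, 4, 8, 16, 32, 64, 128],
  [0, 0, 1, 3, 0, 0, 16, 48, 0, 0, 0, 0, 0, 0, 0, 0, 0, 0, 256, 512],
  [[0], [2], [5], [14], [15], [6], [8], [12], [0, 5], [0, 5, 2, 14]]⟩

theorem c0_ok : c0.chk (apw []) = true := by decide +kernel
theorem c1_ok : c1.chk (apw [0]) = true := by decide +kernel
theorem c2_ok : c2.chk (apw [0, 2]) = true := by decide +kernel
theorem c3_ok : c3.chk (apw [0, 2, 4]) = true := by decide +kernel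

/-- the action of an element -/
noncomputable def ac (k : L6) : V0 →+ V0 := DistribSMul.toAddMonoidHom V0 k

theorem ac_apply (k : L6) (v : V0) : ac k v = k • v := rfl

theorem idx2 {a y : V0} (ha : a ∉ N1) (hy : y ∉ N1) : y + a ∈ N1 := by
  have k : ∀ x, ap pr1 (cd x) < 2 ^ 12 ∧ ap pr1 (cd x) % 2 ^ 11 = 0 := fun x => ⟨ap_lt (by decide) _,
    Lin.ext (F := fun n => ap pr1 n % 2 ^ 11) (G := fun _ => 0) (fun a b => by
      simp only [ap_xor, Nat.xor_mod_two_pow]) (fun _ _ => (Nat.xor_self 0).symm) 20 (by decide +kernel) _ (cd_lt x)⟩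
  rw [← dc_cd y, mem_N1 (cd_lt _)] at hy
  rw [← dc_cd a, mem_N1 (cd_lt _)] at ha
  rw [← dc_cd (y + a), mem_N1 (cd_lt _), cd_add, ap_xor, Nat.xor_eq_zero_iff]
  have := k y
  have := k a
  omega

theorem red_N2 {a : V0} (ha : a ∉ N1) {n : V0} (hn : n ∈ N1) : ∃ K : HM, Tr K • a + a + n ∈ N2 := by
  have m1 : ∀ (K : HM) y, Tr K • y + y ∈ N1 := fun K y => AddSubgroup.subset_closure ⟨K, y, rfl⟩
  have m2 : ∀ (K : HM), ∀ y ∈ N1, Tr K • y + y ∈ N2 := fun K y hy => AddSubgroup.subset_closure ⟨K, y, hy, rfl⟩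
  induction hn using AddSubgroup.closure_induction with
  | mem x hx =>
    obtain ⟨K, y, rfl⟩ := hx
    by_cases hy : y ∈ N1
    · exact ⟨1, by rw [map_one, one_smul, add_self, zero_add]; exact m2 K y hy⟩
    · refine ⟨K, ?_⟩
      convert m2 K _ (idx2 ha hy) using 1
      rw [smul_add]; abel
  | zero => exact ⟨1, by rw [map_one, one_smul, add_self, zero_add]; exact N2.zero_mem⟩
  | add x y _ _ hx hy =>
    obtain ⟨K, hK⟩ := hx
    obtain ⟨K', hK'⟩ := hy
    refine ⟨K * K', ?_⟩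
    convert N2.add_mem (N2.add_mem hK hK') (m2 K _ (m1 K' a)) using 1
    rw [map_mul, mul_smul, smul_add]
    calc _ = Tr K • Tr K' • a + a + (x + y) + ((Tr K • a + Tr K' • a + a) + (Tr K • a + Tr K' • a + a)) := by
          rw [add_self, add_zero]
      _ = _ := by abel
  | neg x _ hx => rwa [neg_eq]

theorem irr {W : AddSubgroup V0} (h : ∀ g : L6, ∀ x ∈ W, g • x ∈ W) {x : V0} (hx : x ∈ W) (h0 : x ≠ 0) : W = ⊤ :=
  span_Pl (by rintro _ ⟨g, rfl⟩; exact h g _ (v0_mem (fun K => h _) hx h0))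

/-- some conjugate of a non-zero vector lies outside a proper subgroup -/
theorem exists_out {N : AddSubgroup V0} (hN : N ≠ ⊤) {a : V0} (h0 : a ≠ 0) : ∃ g : L6, g • a ∉ N := by
  by_contra! c
  let W : AddSubgroup V0 :=
    { carrier := {x | ∀ g : L6, g • x ∈ N}
      zero_mem' := fun g => by rw [smul_zero]; exact N.zero_mem
      add_mem' := fun h h' g => by rw [smul_add]; exact N.add_mem (h g) (h' g)
      neg_mem' := fun {x} h => by rwa [neg_eq] }
  have : W = ⊤ := irr (fun g x hx g' => by rw [← mul_smul]; exact hx _) c h0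
  exact hN (eq_top_iff.2 fun x _ => one_smul L6 x ▸ (this ▸ AddSubgroup.mem_top x : x ∈ W) 1)

theorem good_one (a : V0) : Good (ac (wp av [])) a := by
  have cm : ∀ s, Cm (ac (wp av [])) s := fun s v => by rw [ac_apply, ac_apply, wp_nil, one_smul, one_smul]
  have eq : ∀ (s : L6) a, Eqv (ac (wp av [])) a (s • a) := fun s a => ⟨s, cm s, 0, by rw [map_zero, add_zero, add_zero]⟩
  have x0 : dc 193536 ∉ N1 := by rw [mem_N1 (by norm_num)]; decide +kernel
  have k := fun m hm => (desc (κ := ac (wp av [])) (Lin.id.apw _) (fun _ => wp_act (by decide)) c0 c0_ok m hm).resolve_right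
    fun t => absurd t.1 (by decide)
  by_cases h0 : a = 0
  · obtain ⟨x, h1, h2, h3, -⟩ := k 0 (by decide)
    exact ⟨x, h1, h2, h3, 0, by rw [h0, smul_zero, map_zero, add_zero, add_zero]⟩
  obtain ⟨g, hg⟩ := exists_out (N := N1) (fun e => x0 (e ▸ AddSubgroup.mem_top _)) h0
  refine (eq g a).good ?_
  obtain ⟨K, hK⟩ := red_N2 hg (idx2 x0 hg)
  refine (eq (Tr K) _).good ?_
  rw [add_assoc, ← add_assoc (g • a), add_self, zero_add, N2_spec.1] at hK
  have e := Kr_span c1_2 hK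
  rw [← eq_sub_iff_add_eq, sub_eq_add_neg, neg_eq, add_comm, ← dc_xor] at e
  rw [e]
  exact k _ (ap_lt (by decide) _)

theorem good_wp (l : List ℕ) (c : Ce) (h : c.chk (apw l) = true) (h1 : (∀ k ∈ l, k < 18) ∧ c.x0 = 0 ∧
    (∀ u ∈ c.P, u < 2 ^ 20) ∧ (∀ u ∈ c.B, u < 2 ^ c.d) ∧ ∀ i < 20, 2 ^ i = (apw l (ap c.P (2 ^ i)) ^^^ ap c.P (2 ^ i)) ^^^
      ap c.P (apw l (2 ^ i) ^^^ 2 ^ i) ^^^ ap c.U (ap c.B (2 ^ i))) {a : V0} (ha : wp av l • a = a) :
    Good (ac (wp av l)) a ∨ c.sp < 2 ^ c.d ∧ Eqv (ac (wp av l)) a (dc (c.co c.sp)) :=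
  desc_fix (Lin.id.apw l) (fun _ => wp_act h1.1) c h h1.2 ha

/-- the involutions of the split extension -/
theorem good_in {k : L6} (hk : k * k = 1) : ∃ s : L6, ∃ l, s * k * s⁻¹ = wp av l ∧ ∀ a, wp av l • a = a →
    Good (ac (wp av l)) a ∨ l = [0, 2] ∧ Eqv (ac (wp av l)) a (dc 80) := by
  rcases classes hk with h | h | h | h
  · exact ⟨1, [], by simp [h], fun a _ => Or.inl (good_one a)⟩
  all_goals obtain ⟨s, hs⟩ := isConj_iff.1 h.symm
  · exact ⟨s, [0], by simp [hs, tp_e0], fun a ha =>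
      (good_wp _ c1 c1_ok (by decide +kernel) ha).imp_right fun t => absurd t.1 (by decide)⟩
  · exact ⟨s, [0, 2], by simp [hs, tp_e0, tp_e1], fun a ha =>
      (good_wp _ c2 c2_ok (by decide +kernel) ha).imp_right fun t => ⟨rfl, t.2⟩⟩
  · exact ⟨s, [0, 2, 4], by simp [hs, tp_e0, tp_e1, tp_e2, mul_assoc], fun a ha =>
      (good_wp _ c3 c3_ok (by decide +kernel) ha).imp_right fun t => absurd t.1 (by decide)⟩

theorem good_two : Good (ac (wp av [0, 2])) 0 ∧ Good (ac (wp av [0, 2])) (dc 80 + dc 5200) ∧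
    wp av [0, 2] • dc 80 = dc 80 ∧ wp av [0, 2] • dc 5200 = dc 5200 ∧ dc 5200 ∈ Pl ∧ dc 80 ∉ Pl ∧ dc 80 ≠ 0 ∧
    wp av [0, 2] ≠ 1 ∧ wp av [0, 2] * wp av [0, 2] = 1 := by
  have k : Good (ac (wp av [0, 2])) 0 := by
    refine (good_wp _ c2 c2_ok (by decide +kernel) (smul_zero _)).resolve_right fun ⟨_, s, _, z, e⟩ => ?_
    have k := Lin.ext (((Lin.id.apw [0, 2]).xor Lin.id).ap c2.B) (G := fun _ => 0) (fun _ _ => (Nat.xor_self 0).symm) 20
      (by decide +kernel) _ (cd_lt z)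
    have b := wp_act (l := [0, 2]) (by decide) (cd_lt z)
    rw [smul_zero, eq_comm, add_eq_zero_iff_eq_neg, neg_eq, ac_apply, ← dc_cd z, b.1, ← dc_xor] at e
    rw [← dc_inj (by decide +kernel) (Nat.xor_lt_two_pow b.2 (cd_lt z)) e] at k
    exact absurd k (by decide +kernel)
  refine ⟨k, Eqv.good ⟨1, fun v => by rw [one_smul, one_smul], dc 1024, ?_⟩ k, wp_eq (by decide +kernel),
    wp_eq (by decide +kernel), pl (by decide +kernel), by rw [mem_Pl (by norm_num)]; decide +kernel,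
    dc_ne0 (by decide), fun e => ?_, faith fun v => ?_⟩
  · rw [one_smul, zero_add, ac_apply, wp_eq (b := 4096) (by decide +kernel), ← dc_xor, ← dc_xor]
    rfl
  · have := wp_eq (l := [0, 2]) (a := 1024) (b := 4096) (by decide +kernel)
    rw [e, one_smul] at this
    exact dc_ne (by decide) this
  · rw [← wp_append, ← dc_cd v, (wp_act (by decide) (cd_lt v)).1,
      Lin.ext (Lin.id.apw _) Lin.id 20 (by decide +kernel) _ (cd_lt v)]

/-- coordinatewise conjugation -/
def y0 : V0 →+ V0 := AddMonoidHom.mk' (fun f k => f k * f k) fun f g => funext fun k =>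
  (by decide : ∀ a b : F4, (a + b) * (a + b) = a * a + b * b) (f k) (g k)

/-- its table -/
def YY : List ℕ := [1, 3, 4, 12, 16, 48, 64, 192, 256, 768, 1024, 3072, 4096, 12288, 16384, 49152, 65536, 196608,
  262144, 786432]

theorem y0_dc {n : ℕ} (hn : n < 2 ^ 20) : y0 (dc n) = dc (ap YY n) ∧ ap YY n < 2 ^ 20 :=
  ap_spec y0 rfl (by decide +kernel) hn

/-- the outer involutions -/
def OL : List (List ℕ × Ce) := [([], o0), ([0], o1), ([2], o2), ([0, 2], o3), ([4], o4), ([0, 4], o5), ([2, 4], o6),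
  ([0, 2, 4], o7)]

theorem OL_ok : ∀ p ∈ OL, p.2.chk (fun n => apw p.1 (ap YY n)) = true ∧ (∀ k ∈ p.1, k < 18) ∧ ¬p.2.sp < 2 ^ p.2.d ∧
    p.2.x0 = 0 ∧ (∀ u ∈ p.2.P, u < 2 ^ 20) ∧ (∀ u ∈ p.2.B, u < 2 ^ p.2.d) ∧ ∀ i < 20, 2 ^ i =
      (apw p.1 (ap YY (ap p.2.P (2 ^ i))) ^^^ ap p.2.P (2 ^ i)) ^^^ ap p.2.P (apw p.1 (ap YY (2 ^ i)) ^^^ 2 ^ i) ^^^
        ap p.2.U (ap p.2.B (2 ^ i)) := by decide +kernel

theorem good_out {l : List ℕ} (hl : l ∈ OL.map Prod.fst) {a : V0} (ha : wp av l • y0 a = a) :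
    Good ((ac (wp av l)).comp y0) a := by
  obtain ⟨p, hp, rfl⟩ := List.mem_map.1 hl
  obtain ⟨h1, h2, h3, h4⟩ := OL_ok p hp
  refine (desc_fix ((Lin.id.ap YY).apw p.1) (fun n hn => ?_) p.2 h1 h4 ha).resolve_right fun t => h3 t.1
  rw [AddMonoidHom.comp_apply, (y0_dc hn).1]
  exact wp_act h2 (y0_dc hn).2

end Cfsg.Agent.U6S
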