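/-
Outer involutions of `U6(2) . 2`.
-/
import Cfsg.Agent.U6S.Tab
import Cfsg.Agent.E62.LAut

set_option autoImplicit false
set_option maxRecDepth 100000

namespace Cfsg.Agent.U6S

open Matrix Subgroup Cfsg.Agent.H10 Cfsg.Agent.H29.F4 Cfsg.Agent.H22.U6
  Cfsg.Agent.MON.Cox Cfsg.Agent.E62 Cfsg.Agent.E62.FT
open Cfsg.Agent.H29 (F4 psuEquiv suEquiv centerQuotEquiv hermForm_comp map_mulVec_comp)

local notation "𝐡" => hermForm 6 F4 2

/-- the Frobenius map -/
def fr : F4 ≃+* F4 where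
  toFun x := x * x
  invFun x := x * x
  left_inv := by intro x; revert x; decide
  right_inv := by intro x; revert x; decide
  map_mul' := by decide
  map_add' := by decide

theorem fr_eq (x : F4) : fr x = cj F4 2 x := (sq x).symm

/-- the field automorphism -/
noncomputable def sg : L6 ≃* L6 := psuEquiv 6 2 fr

theorem sg_mk (g : SU 6 F4 2) : sg (g : L6) = (suEquiv 6 2 fr g : SU 6 F4 2) := rfl

theorem sm_su (g : SU 6 F4 2) : sm (suEquiv 6 2 fr g) = (sm g).map fr := rfl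

theorem herm_fr (x y : V6) : 𝐡 (fr ∘ x) (fr ∘ y) = 𝐡 y x := by rw [hermForm_comp, fr_eq, cj_herm]

theorem sg_tv {x : V6} (hx : 𝐡 x x = 0) : sg (tv x) = tv (fr ∘ x) := by
  rw [tv, sg_mk, tv]
  refine congrArg _ (sm_injective ?_)
  rw [sm_su, sm_ts hx, sm_ts ((herm_fr x x).trans hx)]
  ext a b
  simp [unitaryTransvection, vecMulVec_apply, one_apply, apply_ite fr]

theorem sg_sg (k : L6) : sg (sg k) = k := by
  obtain ⟨g, rfl⟩ := QuotientGroup.mk_surjective k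
  rw [sg_mk, sg_mk]
  exact congrArg _ (sm_injective (Matrix.ext fun a b => fr.left_inv (sm g a b)))

theorem y0_y0 (f : V0) : y0 (y0 f) = f := funext fun k => fr.left_inv (f k)

theorem y0_smul (k : L6) (f : V0) : y0 (k • f) = sg k • y0 f := by
  obtain ⟨g, rfl⟩ := QuotientGroup.mk_surjective k
  rw [sg_mk, act_mk, act_mk, sm_su]
  funext S
  have m : ∀ S T, mn ((sm g).map fr) S T = fr (mn (sm g) S T) := fun S T => by
    simp only [mn, map_apply, map_add, map_mul]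
  change fr (lam _ f S) = ∑ T : Fin 10, (_ * fr (f T) + _ * (fr (f T) * fr (f T)))
  simp only [lam, map_sum, map_add, map_mul, m]

theorem end_id {φ : V0 →+ V0} (hi : Function.Injective φ) (h : ∀ (k : L6) v, φ (k • v) = k • φ v) (v : V0) :
    φ v = v := by
  have h0 : φ v0 = v0 := ((fixJ _).1 fun K => by rw [← h, Tr_v0]).resolve_left fun e => v0_ne (hi (e.trans (map_zero φ).symm))
  have : φ.eqLocus (AddMonoidHom.id V0) = ⊤ := span_Pl (by
    rintro _ ⟨g, rfl⟩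
    exact (h g v0).trans (by rw [h0]; rfl))
  exact (this ▸ AddSubgroup.mem_top v : v ∈ φ.eqLocus (AddMonoidHom.id V0))

/-- conjugation by an isometry -/
def cjH {M N : Matrix (Fin 6) (Fin 6) F4} (hM : IsIsom 2 M) (hN : IsIsom 2 N) (e : M * N = 1) :
    SU 6 F4 2 ≃* SU 6 F4 2 where
  toFun g := mkSU (M * sm g * N) ((hM.mul (sm_isIsom g)).mul hN) (by
    rw [det_mul, det_mul, sm_det, mul_one, ← det_mul, e, det_one])
  invFun g := mkSU (N * sm g * M) ((hN.mul (sm_isIsom g)).mul hM) (by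
    rw [det_mul, det_mul, sm_det, mul_one, ← det_mul, mul_eq_one_comm.1 e, det_one])
  left_inv g := sm_injective (show N * (M * sm g * N) * M = sm g by
    simp only [← Matrix.mul_assoc, mul_eq_one_comm.1 e, Matrix.one_mul]
    rw [Matrix.mul_assoc, mul_eq_one_comm.1 e, Matrix.mul_one])
  right_inv g := sm_injective (show M * (N * sm g * M) * N = sm g by
    simp only [← Matrix.mul_assoc, e, Matrix.one_mul]
    rw [Matrix.mul_assoc, e, Matrix.mul_one])
  map_mul' a b := sm_injective (show M * (sm a * sm b) * N = M * sm a * N * (M * sm b * N) by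
    simp only [Matrix.mul_assoc]
    rw [← Matrix.mul_assoc N M, mul_eq_one_comm.1 e, Matrix.one_mul])

theorem cjH_tv {M N : Matrix (Fin 6) (Fin 6) F4} (hM : IsIsom 2 M) (hN : IsIsom 2 N) (e : M * N = 1) {x : V6}
    (hx : 𝐡 x x = 0) : centerQuotEquiv (cjH hM hN e) (tv x) = tv (M *ᵥ x) := by
  refine congrArg (QuotientGroup.mk (s := center (SU 6 F4 2))) (sm_injective ?_)
  change M * sm (ts x) * N = _
  rw [sm_ts hx, sm_ts ((hM _ _).trans hx), hM.mul_ut, Matrix.mul_assoc, e, Matrix.mul_one]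

/-- a diagonal matrix -/
def dd (c : F4) : Matrix (Fin 6) (Fin 6) F4 := diagonal ![c, 1, 1, 1, 1, 1]

theorem dd_spec : ∀ c : F4, c ≠ 0 → (dd c)ᵀ * (dd c).map (fun x => x ^ 2) = 1 ∧ dd c⁻¹ * dd c = 1 ∧
    (dd c⁻¹).map (fun x => x * x) = dd c⁻¹ * dd c⁻¹ ∧ c * ∏ i, ![c⁻¹, 1, 1, 1, 1, 1] i = 1 := by decide +kernel

/-- an outer automorphism with inner square is the field automorphism in suitable coordinates -/
theorem twist (α : MulAut L6) (h2 : ∃ g, α * α = MulAut.conj g) (hn : ∀ g, α ≠ MulAut.conj g) :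
    ∃ (β : L6 ≃* L6) (k : L6), ∀ l, k * α (β l) * k⁻¹ = β (sg l) := by
  obtain ⟨g, σ, hg, h⟩ := LA.act_tv α
  by_cases hσ : σ w = w
  · have h1 : ∀ x : V6, σ ∘ x = x := fun x => funext fun k => by
      show σ (x k) = x k
      cases x k
      exacts [map_zero σ, map_one σ, hσ, (map_mul σ w w).trans (by rw [hσ]; rfl)]
    simp only [h1] at h
    let k : SU 6 F4 2 := mkSU (g * g * g) ((hg.mul hg).mul hg) (by
      rw [det_mul, det_mul]
      exact (by decide : ∀ c : F4, c ≠ 0 → c * c * c = 1) _ hg.det_ne_zero)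
    have h3 : α * α * α = MulAut.conj (k : L6) := by
      refine MulEquiv.toMonoidHom_injective (MonoidHom.eq_of_eqOn_dense closure_E6 ?_)
      rintro _ ⟨x, hx, -, rfl⟩
      show α (α (α (tv x))) = k * tv x * (k : L6)⁻¹
      rw [(h x hx).2, (h _ ((hg _ _).trans hx)).2, (h _ ((hg _ _).trans ((hg _ _).trans hx))).2, tv_conj,
        mulVec_mulVec, mulVec_mulVec]
      rfl
    obtain ⟨l, hl⟩ := h2
    exact absurd (by rw [map_mul, map_inv, ← hl, ← h3, inv_mul_cancel_left]) (hn (l⁻¹ * k))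
  have h0 : σ w = v := (by decide : ∀ c : F4, c * c + c + 1 = 0 → c ≠ w → c = v) _ (by
    rw [← map_mul, ← map_add, ← map_one σ, ← map_add]; exact map_zero σ) hσ
  obtain rfl : σ = fr := RingEquiv.ext fun x => by
    cases x
    exacts [map_zero σ, map_one σ, h0, (map_mul σ w w).trans (by rw [h0]; rfl)]
  obtain ⟨d1, d2, d3, d4⟩ := dd_spec _ hg.det_ne_zero
  have hM : IsIsom 2 (dd g.det⁻¹) := (isIsom_iff _).2 (dd_spec _ (inv_ne_zero hg.det_ne_zero)).1
  let k : SU 6 F4 2 := mkSU (g * dd g.det⁻¹) (hg.mul hM) (by rw [det_mul, dd, det_diagonal, d4])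
  refine ⟨centerQuotEquiv (cjH hM ((isIsom_iff _).2 d1) d2), (k : L6)⁻¹, fun l => ?_⟩
  refine DFunLike.congr_fun (MonoidHom.eq_of_eqOn_dense closure_E6 (f := (MulAut.conj (k : L6)⁻¹).toMonoidHom.comp
    (α.toMonoidHom.comp (centerQuotEquiv (cjH hM ((isIsom_iff _).2 d1) d2)).toMonoidHom))
    (g := (centerQuotEquiv (cjH hM ((isIsom_iff _).2 d1) d2)).toMonoidHom.comp sg.toMonoidHom) ?_) l
  rintro _ ⟨x, hx, -, rfl⟩
  show (k : L6)⁻¹ * α (centerQuotEquiv _ (tv x)) * (k : L6)⁻¹⁻¹ = centerQuotEquiv _ (sg (tv x))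
  rw [cjH_tv _ _ _ hx, sg_tv hx, cjH_tv _ _ _ ((herm_fr x x).trans hx), (h _ ((hM _ _).trans hx)).2, mul_assoc,
    inv_mul_eq_iff_eq_mul, mul_inv_eq_iff_eq_mul, ← mul_inv_eq_iff_eq_mul, inv_inv, eq_comm, ← mul_inv_eq_iff_eq_mul, tv_conj,
    ← map_mulVec_comp, show (dd g.det⁻¹).map fr = _ from d3, mulVec_mulVec, mulVec_mulVec, ← Matrix.mul_assoc]
  rfl

/-- a semilinear involution -/
structure SI (φ : V6 → V6) : Prop where
  a : ∀ x y, φ (x + y) = φ x + φ y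
  s : ∀ (c : F4) x, φ (c • x) = (c * c) • φ x
  i : ∀ x, φ (φ x) = x
  h : ∀ x y, 𝐡 (φ x) (φ y) = 𝐡 y x

/-- an invariant non-degenerate subspace -/
structure IS (φ : V6 → V6) (W : Submodule F4 V6) (n : ℕ) : Prop where
  inv : ∀ x ∈ W, φ x ∈ W
  nd : ∀ b ∈ W, b ≠ 0 → ∃ x ∈ W, 𝐡 x b = 1
  rk : n ≤ Module.finrank F4 W

theorem rk_le (W : Submodule F4 V6) (f : V6 →ₗ[F4] F4) :
    Module.finrank F4 W ≤ Module.finrank F4 (W ⊓ LinearMap.ker f : Submodule F4 V6) + 1 := by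
  have := (f.domRestrict W).finrank_range_add_finrank_ker
  rw [LinearMap.ker_domRestrict, ← Submodule.finrank_map_subtype_eq, Submodule.map_comap_subtype] at this
  have := (LinearMap.range (f.domRestrict W)).finrank_le
  rw [Module.finrank_self] at this
  omega

theorem step {φ : V6 → V6} (s : SI φ) {W : Submodule F4 V6} {n : ℕ} (h : IS φ W (n + 2)) :
    ∃ e ∈ W, ∃ e' ∈ W, ∃ b : Bool, (𝐡 e e = 1 ∧ 𝐡 e' e' = 1 ∧ 𝐡 e e' = 0) ∧ (φ e = cond b e' e ∧ φ e' = cond b e e') ∧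
      IS φ (W ⊓ LinearMap.ker (hermL 2 e) ⊓ LinearMap.ker (hermL 2 e')) n := by
  have f1 : ∀ x, φ (x + φ x) = x + φ x := fun x => by rw [s.a, s.i, add_comm]
  have nr : ∀ x : V6, 𝐡 x x = 0 ∨ 𝐡 x x = 1 := fun x =>
    (by decide : ∀ c : F4, c ^ 2 = c → c = 0 ∨ c = 1) _ (cj_herm x x)
  have c2 : ∀ c : F4, c + c = 0 := by decide
  obtain ⟨b, b1, b2, b3, b4⟩ : ∃ b ∈ W, φ b = b ∧ b ≠ 0 ∧ 𝐡 b b = 0 := by
    by_contra! c
    obtain ⟨b, hb⟩ : ∃ b, ∀ x ∈ W, φ x = x → x = 0 ∨ x = b := by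
      by_cases k : ∃ b ∈ W, φ b = b ∧ b ≠ 0
      · obtain ⟨b, b1, b2, b3⟩ := k
        refine ⟨b, fun x x1 x2 => or_iff_not_imp_left.2 fun x3 => ?_⟩
        by_contra e
        refine c _ (W.add_mem x1 b1) (by rw [s.a, x2, b2]) (fun e' => e (funext fun i => ?_)) ?_
        · exact (by decide : ∀ a b : F4, a + b = 0 → a = b) _ _ (congrFun e' i)
        · rw [herm_add_left, herm_add_right, herm_add_right, (nr x).resolve_left (c x x1 x2 x3),
            (nr b).resolve_left (c b b1 b2 b3), ← s.h x b, x2, b2]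
          linear_combination c2 1 + c2 (𝐡 x b)
      · exact ⟨0, fun x x1 x2 => Or.inl (by_contra fun x3 => k ⟨x, x1, x2, x3⟩)⟩
    have k : ∀ x ∈ W, x + φ x ∈ Submodule.span F4 {b} := fun x hx => by
      rcases hb _ (W.add_mem hx (h.inv x hx)) (f1 x) with e | e <;> rw [e]
      exacts [Submodule.zero_mem _, Submodule.mem_span_singleton_self _]
    have : W ≤ Submodule.span F4 {b} := fun x hx => by
      convert Submodule.add_mem _ (Submodule.smul_mem _ v (k x hx)) (k _ (W.smul_mem w hx)) using 1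
      rw [s.s]
      ext i
      exact (by decide : ∀ a b : F4, a = v * (a + b) + (w * a + w * w * b)) _ _
    have := (Submodule.finrank_mono this).trans (finrank_span_le_card ({b} : Set V6))
    have := h.rk
    simp at *
    omega
  obtain ⟨x, x1, x2⟩ := h.nd b b1 b3
  obtain ⟨b', c1, c3, c4⟩ : ∃ b' ∈ W, φ b' = b' ∧ 𝐡 b' b = 1 := ⟨_, W.add_mem (W.smul_mem w x1) (h.inv _ (W.smul_mem w x1)),
    f1 _, by rw [herm_add_left, ← b2, s.h, b2, herm_smul_left, herm_smul_right, x2, herm_swap_one x2]; decide⟩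
  have c5 := herm_swap_one c4
  obtain ⟨e, e1, e', e2, t, e3, e4⟩ : ∃ e ∈ W, ∃ e' ∈ W, ∃ t : Bool, (𝐡 e e = 1 ∧ 𝐡 e' e' = 1 ∧ 𝐡 e e' = 0) ∧
      φ e = cond t e' e ∧ φ e' = cond t e e' := by
    rcases nr b' with k | k
    · refine ⟨b + w • b', W.add_mem b1 (W.smul_mem _ c1), b + v • b', W.add_mem b1 (W.smul_mem _ c1), true, ?_,
        by rw [s.a, s.s, b2, c3]; rfl, by rw [s.a, s.s, b2, c3]; rfl⟩
      simp only [herm_add_left, herm_add_right, herm_smul_left, herm_smul_right, b4, c4, c5, k, cj_apply]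
      decide
    · refine ⟨b', c1, b + b', W.add_mem b1 c1, false, ?_, c3, by rw [s.a, b2, c3]; rfl⟩
      simp only [herm_add_left, herm_add_right, b4, c4, c5, k]
      decide
  refine ⟨e, e1, e', e2, t, e3, e4, fun x hx => ?_, fun y hy y0 => ?_, ?_⟩
  · have k1 : 𝐡 (φ x) (φ e) = 0 := (s.h _ _).trans (herm_swap_zero hx.1.2)
    have k2 : 𝐡 (φ x) (φ e') = 0 := (s.h _ _).trans (herm_swap_zero hx.2)
    rw [e4.1] at k1
    rw [e4.2] at k2
    cases t
    exacts [⟨⟨h.inv x hx.1.1, k1⟩, k2⟩, ⟨⟨h.inv x hx.1.1, k2⟩, k1⟩]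
  · obtain ⟨z, z1, z2⟩ := h.nd y hy.1.1 y0
    refine ⟨z - 𝐡 z e • e - 𝐡 z e' • e', ⟨⟨W.sub_mem (W.sub_mem z1 (W.smul_mem _ e1)) (W.smul_mem _ e2), ?_⟩, ?_⟩, ?_⟩
    · show 𝐡 _ e = 0
      simp [herm_sub_left, herm_smul_left, e3.1, herm_swap_zero e3.2.2]
    · show 𝐡 _ e' = 0
      simp [herm_sub_left, herm_smul_left, e3.2.1, e3.2.2]
    · simp [herm_sub_left, herm_smul_left, z2, herm_swap_zero (show 𝐡 y e = 0 from hy.1.2),
        herm_swap_zero (show 𝐡 y e' = 0 from hy.2)]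
  · have := rk_le W (hermL 2 e)
    have := rk_le (W ⊓ LinearMap.ker (hermL 2 e)) (hermL 2 e')
    have := h.rk
    omega

/-- the permutations -/
def pm (a b c : Bool) : Fin 6 → Fin 6 := ![cond a 1 0, cond a 0 1, cond b 3 2, cond b 2 3, cond c 5 4, cond c 4 5]

theorem frame {φ : V6 → V6} (s : SI φ) : ∃ (E : Fin 6 → V6) (a b c : Bool),
    (∀ i j, 𝐡 (E i) (E j) = if i = j then 1 else 0) ∧ ∀ j, φ (E j) = E (pm a b c j) := by
  obtain ⟨e0, -, e1, -, a, a1, a2, h1⟩ := step s (W := ⊤) (n := 4) ⟨fun _ _ => trivial,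
    fun b _ h => (exists_herm_eq_one h).imp fun _ h => ⟨trivial, h⟩, by simp⟩
  obtain ⟨e2, ⟨⟨-, p1 : 𝐡 e2 e0 = 0⟩, p2 : 𝐡 e2 e1 = 0⟩, e3, ⟨⟨-, p3 : 𝐡 e3 e0 = 0⟩, p4 : 𝐡 e3 e1 = 0⟩, b, b1, b2, h2⟩ :=
    step s h1
  obtain ⟨e4, ⟨⟨⟨⟨-, q1 : 𝐡 e4 e0 = 0⟩, q2 : 𝐡 e4 e1 = 0⟩, q3 : 𝐡 e4 e2 = 0⟩, q4 : 𝐡 e4 e3 = 0⟩, e5,
    ⟨⟨⟨⟨-, r1 : 𝐡 e5 e0 = 0⟩, r2 : 𝐡 e5 e1 = 0⟩, r3 : 𝐡 e5 e2 = 0⟩, r4 : 𝐡 e5 e3 = 0⟩, c, c1, c2, -⟩ := step s h2
  refine ⟨![e0, e1, e2, e3, e4, e5], a, b, c, fun i j => ?_, fun j => ?_⟩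
  · wlog h : j ≤ i generalizing i j
    · rw [herm_swap (this j i (le_of_not_ge h)), if_neg (ne_of_not_ge h), if_neg (ne_of_not_ge h).symm, map_zero]
    fin_cases i <;> fin_cases j <;> first
      | exact absurd h (by decide)
      | simp [*, herm_swap_zero a1.2.2, herm_swap_zero b1.2.2, herm_swap_zero c1.2.2]
  · fin_cases j
    · cases a <;> exact a2.1
    · cases a <;> exact a2.2
    · cases b <;> exact b2.1
    · cases b <;> exact b2.2
    · cases c <;> exact c2.1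
    · cases c <;> exact c2.2

/-- the corresponding elements -/
noncomputable def pe (a b c : Bool) : SU 6 F4 2 :=
  cond a (ts (gens.getD 0 0)) 1 * (cond b (ts (gens.getD 2 0)) 1 * cond c (ts (gens.getD 4 0)) 1)

theorem sm_pe (a b c : Bool) : sm (pe a b c) = Matrix.of fun i j => if i = pm a b c j then 1 else 0 := by
  have k : ∀ (t : Bool), ∀ j < 8, sm (cond t (ts (gens.getD j 0)) 1) = cond t (ActA.tm (gens.getD j 0)) 1 :=
    fun t j hj => by
      cases t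
      exacts [rfl, ActA.tm_eq (ActA.gens_iso _ (ActA.gens_mem hj))]
  rw [pe, sm_mul, sm_mul, k _ _ (by norm_num), k _ _ (by norm_num), k _ _ (by norm_num)]
  revert a b c
  decide +kernel

theorem mk_pe (a b c : Bool) : ∃ l ∈ OL.map Prod.fst, (pe a b c : L6) = wp av l := by
  refine ⟨cond a [0] [] ++ (cond b [2] [] ++ cond c [4] []), by revert a b c; decide +kernel, ?_⟩
  rw [wp_append, wp_append, pe, QuotientGroup.mk_mul, QuotientGroup.mk_mul]
  congr 1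
  · cases a
    exacts [rfl, (mul_one _).symm]
  congr 1
  · cases b
    exacts [rfl, (mul_one _).symm]
  · cases c
    exacts [rfl, (mul_one _).symm]

/-- normal form of the outer involutions -/
theorem outer {k : L6} (hk : k * sg k = 1) : ∃ m : L6, ∃ l ∈ OL.map Prod.fst, m⁻¹ * k * sg m = wp av l := by
  obtain ⟨g, rfl⟩ := QuotientGroup.mk_surjective k
  rw [sg_mk, ← QuotientGroup.mk_mul, QuotientGroup.eq_one_iff, mem_center_SU_iff (by decide), sm_mul, sm_su] at hk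
  obtain ⟨c, hc⟩ := hk
  let φ : V6 → V6 := fun x => sm g *ᵥ (fr ∘ x)
  have h1 : ∀ (c : F4) x, φ (c • x) = (c * c) • φ x := fun c x => by
    rw [← mulVec_smul]; exact congrArg (sm g *ᵥ ·) (funext fun i => map_mul fr c (x i))
  have h2 : ∀ x y, 𝐡 (φ x) (φ y) = 𝐡 y x := fun x y => (sm_isIsom g _ _).trans (herm_fr x y)
  have h3 : ∀ x, φ (φ x) = c • x := fun x => by
    show sm g *ᵥ (fr ∘ (sm g *ᵥ (fr ∘ x))) = _
    rw [← map_mulVec_comp, mulVec_mulVec, hc, smul_mulVec, one_mulVec]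
    exact congrArg _ (funext fun i => fr.left_inv _)
  have h4 : c = 1 := by
    have e0 : 𝐡 (Pi.single 0 1) (Pi.single 0 1) = 1 := by decide +kernel
    have e1 := h2 (φ (Pi.single 0 1)) (φ (Pi.single 0 1))
    have e2 := congrArg (𝐡 · (φ (Pi.single 0 1))) ((h3 (φ (Pi.single 0 1))).symm.trans ((congrArg φ (h3 _)).trans (h1 _ _)))
    simp only [h3, herm_smul_left, herm_smul_right, h2, e0, cj_apply] at e1 e2
    exact (by decide : ∀ c : F4, c ^ 2 * (c * 1) = 1 → c * 1 = c * c * 1 → c = 1) c e1 e2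
  obtain ⟨E, a, b, c, e1, e2⟩ := frame (φ := φ) ⟨fun x y => by
    rw [← mulVec_add]; exact congrArg (sm g *ᵥ ·) (funext fun i => map_add fr (x i) (y i)), h1, fun x => by rw [h3, h4, one_smul], h2⟩
  let M : Matrix (Fin 6) (Fin 6) F4 := Matrix.of fun i j => E j i
  have hM : IsIsom 2 M := (isIsom_iff _).2 (Matrix.ext fun i j => by rw [one_apply, ← e1]; rfl)
  have e3 : sm g * M.map fr = M * sm (pe a b c) := Matrix.ext fun i j => by
    rw [sm_pe]
    refine (congrFun (e2 j) i).trans ?_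
    simp [mul_apply, M]
  have e4 : M.det = 1 := by
    have := congrArg det e3
    rw [det_mul, det_mul, sm_det, sm_det, one_mul, mul_one, ← RingEquiv.mapMatrix_apply, ← RingEquiv.map_det] at this
    exact (by decide : ∀ c : F4, c ≠ 0 → c * c = c → c = 1) _ hM.det_ne_zero this
  obtain ⟨l, hl, e5⟩ := mk_pe a b c
  refine ⟨mkSU M hM e4, l, hl, ?_⟩
  rw [← e5, mul_assoc, inv_mul_eq_iff_eq_mul, sg_mk, ← QuotientGroup.mk_mul, ← QuotientGroup.mk_mul]
  exact congrArg _ (sm_injective e3)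

end Cfsg.Agent.U6S
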